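/-
The configuration and its certificate.
-/
import Cfsg.Agent.Lib.Co3M12.Act2
import Cfsg.Agent.Lib.Co3M12.Case.CoB.Facts0
import Cfsg.Agent.Lib.Co3M12.Case.CoB.Facts1
import Cfsg.Agent.Lib.Co3M12.Case.CoB.Facts2
import Cfsg.Agent.Lib.Co3M12.Case.CoB.Facts3
import Cfsg.Agent.Lib.Co3M12.Case.CoB.Facts4
import Cfsg.Agent.Lib.Co3M12.Case.CoB.Facts5
import Cfsg.Agent.Lib.Co3M12.Case.CoB.Facts6
import Cfsg.Agent.Lib.Co3M12.Case.CoB.Facts7

set_option autoImplicit false
set_option maxRecDepth 100000

namespace CfsgLib.Co3M12.CoB

open Eng CfsgPC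

/-- The configuration. -/
def D : Dat := ⟨(0x1a0c058281208038180a04018080200, 0x1a0c058281208038180a04018080200), Act2.act, [(0x1a0c0380806080502c0809000180205, 0x1a0c0301c0808058080005048280203, 0x1a0c0201c12080500c040b030140200, 0x1a0c0301c0808058080005048280203, 0x1a0c0380806080502c0809000180205), (0x1a0c0480c00020402802050301c080b, 0x1a0c0080c0e060482c100402808000a, 0x180d000081207020200c0b018280a01, 0x1a0c0001816070100c0801050200a09, 0x1a0c030000e05048200604050081601)], Data.chain, [(0, 0x1a0c058281208038180a04018080200), (0, 0x1a0c058281208038180a04018080200), (1, 0x1a0c0280c1204000201602030280e01), (2, 0x1a0c020240a080101806070502c0200), (1, 0x1a0c04028080b0280c0e09030080200), (3, 0x1a0c0580c0a06038201202050100200), (5, 0x1a0c0501416060080c1004038240002), (1, 0x1a0c048001608010180a030201c020a), (5, 0x1a0c0082c0c0403814100900008060a), (5, 0x1a0c0202c02000300c1205010280e08), (2, 0x1a0c04028080b0280c0e09030080200), (10, 0x1a0c030200e0b0280c120200010020a), (10, 0x1a0c0200c0c0005014040b040040e09), (2, 0x1a0c028040c020501000090400c0e0b), (10, 0x1a0c028101609030280e02008000608),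 (10, 0x1a0c020240a080101806070502c0200), (2, 0x1a0c0100412050002014060200c0e0b), (15, 0x1a0c0380410020482c1405000180604), (15, 0x1a0c048080e0501800140b008180808), (2, 0x1a0c0001c0803008241606010201405), (15, 0x1a0c0202c02000300c1205010280e08), (15, 0x1a0c0481c04040280414030402c0006), (2, 0x1a0c04000060902810040b0301c020a), (15, 0x1a0c028080e010481010030502c0006), (15, 0x1a0c02824020b040180e0a018080800), (2, 0x1a0c0382c0009050080606008100a08), (15, 0x1a0c050240e020282000010200c0c0b), (15, 0x1a0c04814080b0501804080181c0200), (2, 0x1a0c010201603000100c07048280a01), (15, 0x1a0c018280007040140c04058080209), (22, 0x1a0c05824080303808000503004100a), (2, 0x1a0c0382c1406000140609008200404), (15, 0x1a0c02824040b008280c00018101007), (15, 0x1a0c0102c1003020000a07008280c09), (2, 0x1a0c050080c090082008030282c0007), (15, 0x1a0c0302016070080008050500c1202), (15, 0x1a0c030240a070200c1408058000401), (2, 0x1a0c018080a0805824080a030040007), (22, 0x1a0c0280c020403020040a0481c1600), (22, 0x1a0c040040e060002c0803028280409), (2, 0x1a0c04808060a0201402060402c0007), (22, 0x1a0c0501804040081412000402c0607),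 (15, 0x1a0c0500806040082c1206038200005), (2, 0x1a0c0080c080603808120800014160a), (15, 0x1a0c048181407010100601058141000), (22, 0x1a0c04004160a0100008090280c0e06), (2, 0x1a0c0182416010402804060281c0800), (15, 0x1a0c058240208038080a0a0000c0806), (22, 0x1a0c038040602050240004058180a08), (2, 0x1a0c0082c0c03028280808038081200), (15, 0x1a0c0302c0a02018100008048280e01), (15, 0x1a0c0001c16050200c020a010181009), (3, 0x1a0c010201603000100c07048280a01), (22, 0x1a0c058001407030141009018080204), (15, 0x1a0c000140209018280c08038081604), (3, 0x1a0c018281009038100406058140200), (31, 0x1a0c0281c0008058080c04050040609), (48, 0x1a0c03010100b0082806020281c0009), (9, 0x1a0c0302004010580c0a00050101207), (29, 0x1a0c0281014030102402080302c0007), (12, 0x1a0c020040c0705814000901820040a)]⟩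

/-- The certificate. -/
def fs : FTree := (.node (.node (.node (.node (.node (.node (.node (.node fs0 fs1) (.node fs2 fs3)) (.node (.node fs4 fs5) (.node fs6 fs7))) (.node (.node (.node fs8 fs9) (.node fs10 fs11)) (.node (.node fs12 fs13) (.node fs14 fs15)))) (.node (.node (.node (.node fs16 fs17) (.node fs18 fs19)) (.node (.node fs20 fs21) (.node fs22 fs23))) (.node (.node (.node fs24 fs25) (.node fs26 fs27)) (.node (.node fs28 fs29) (.node fs30 fs31))))) (.node (.node (.node (.node (.node fs32 fs33) (.node fs34 fs35)) (.node (.node fs36 fs37) (.node fs38 fs39))) (.node (.node (.node fs40 fs41) (.node fs42 fs43)) (.node (.node fs44 fs45) (.node fs46 fs47)))) (.node (.node (.node (.node fs48 fs49) (.node fs50 fs51)) (.node (.node fs52 fs53) (.node fs54 fs55))) (.node (.node (.node fs56 fs57) (.node fs58 fs59)) (.node (.node fs60 fs61) (.node fs62 fs63)))))) (.node (.node (.node (.node (.node (.node fs64 fs65) (.node fs66 fs67)) (.node (.node fs68 fs69) (.node fs70 fs71))) (.node (.node (.node fs72 fs73) (.node fs74 fs75)) (.node (.node fs76 fs77) (.node fs78 fs79))))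 (.node (.node (.node (.node fs80 fs81) (.node fs82 fs83)) (.node (.node fs84 fs85) (.node fs86 fs87))) (.node (.node (.node fs88 fs89) (.node fs90 fs91)) (.node (.node fs92 fs93) (.node fs94 fs95))))) (.node (.node (.node (.node (.node fs96 fs97) (.node fs98 fs99)) (.node (.node fs100 fs101) (.node fs102 fs103))) (.node (.node (.node fs104 fs105) (.node fs106 fs107)) (.node (.node fs108 fs109) (.node fs110 fs111)))) (.node (.node (.node (.node fs112 fs113) (.node fs114 fs115)) (.node (.node fs116 fs117) (.node fs118 fs119))) (.node (.node (.node fs120 fs121) (.node fs122 fs123)) (.node (.node fs124 fs125) (.node fs126 fs127))))))) (.node (.node (.node (.node (.node (.node (.node fs128 fs129) (.node fs130 fs131)) (.node (.node fs132 fs133) (.node fs134 fs135))) (.node (.node (.node fs136 fs137) (.node fs138 fs139)) (.node (.node fs140 fs141) (.node fs142 fs143)))) (.node (.node (.node (.node fs144 fs145) (.node fs146 fs147)) (.node (.node fs148 fs149) (.node fs150 fs151))) (.node (.node (.node fs152 fs153) (.node fs154 fs155)) (.node (.node fs156 fs157) (.node fs158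 fs159))))) (.node (.node (.node (.node (.node fs160 fs161) (.node fs162 fs163)) (.node (.node fs164 fs165) (.node fs166 fs167))) (.node (.node (.node fs168 fs169) (.node fs170 fs171)) (.node (.node fs172 fs173) (.node fs174 fs175)))) (.node (.node (.node (.node fs176 fs177) (.node fs178 fs179)) (.node (.node fs180 fs181) (.node fs182 fs183))) (.node (.node (.node fs184 fs185) (.node fs186 fs187)) (.node (.node fs188 fs189) (.node fs190 fs191)))))) (.node (.node (.node (.node (.node (.node fs192 fs193) (.node fs194 fs195)) (.node (.node fs196 fs197) (.node fs198 fs199))) (.node (.node (.node fs200 fs201) (.node fs202 fs203)) (.node (.node fs204 fs205) (.node fs206 fs207)))) (.node (.node (.node (.node fs208 fs209) (.node fs210 fs211)) (.node (.node fs212 fs213) (.node fs214 fs215))) (.node (.node (.node fs216 fs217) (.node fs218 fs219)) (.node (.node fs220 fs221) (.node fs222 fs223))))) (.node (.node (.node (.node (.node fs224 fs225) (.node fs226 fs227)) (.node (.node fs228 fs229) (.node fs230 fs231))) (.node (.node (.node fs232 fs233) (.node fs234 fs235)) (.node (.node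 fs236 fs237) (.node fs238 fs239)))) (.node (.node (.node (.node fs240 fs241) (.node fs242 fs243)) (.node (.node fs244 fs245) (.node fs246 fs247))) (.node (.node (.node fs248 fs249) (.node fs250 fs251)) (.node (.node fs252 fs253) (.node fs254 fs255))))))))

end CfsgLib.Co3M12.CoB
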