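/-
Facts follow from earlier ones.
-/
import Cfsg.Agent.Lib.Co3M12.Case.CoB.Dat

set_option autoImplicit false
set_option maxRecDepth 100000

namespace CfsgLib.Co3M12.CoB

open Eng CfsgPC

theorem ck9 : rangeB D fs.get 13500 1500 = true := by decide +kernel

end CfsgLib.Co3M12.CoB
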