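/-
The closure is right.
-/
import Cfsg.Agent.Lib.Co3M12.Case.CoB.Clo

set_option autoImplicit false
set_option maxRecDepth 100000

namespace CfsgLib.Co3M12.CoB

open Eng CfsgPC

theorem clo0_ok : closedRangeB D fs.get 61 (cloOf clo) Data.reps 30488 0 8 = true := by decide +kernel

theorem clo8_ok : closedRangeB D fs.get 61 (cloOf clo) Data.reps 30488 8 8 = true := by decide +kernel

theorem clo16_ok : closedRangeB D fs.get 61 (cloOf clo) Data.reps 30488 16 8 = true := by decide +kernel

theorem clo24_ok : closedRangeB D fs.get 61 (cloOf clo) Data.reps 30488 24 8 = true := by decide +kernel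

theorem clo32_ok : closedRangeB D fs.get 61 (cloOf clo) Data.reps 30488 32 8 = true := by decide +kernel

theorem clo40_ok : closedRangeB D fs.get 61 (cloOf clo) Data.reps 30488 40 8 = true := by decide +kernel

theorem clo48_ok : closedRangeB D fs.get 61 (cloOf clo) Data.reps 30488 48 8 = true := by decide +kernel

theorem clo56_ok : closedRangeB D fs.get 61 (cloOf clo) Data.reps 30488 56 5 = true := by decide +kernel

theorem stabs_ok : stabsB fs.get 30488 els = true := by decide +kernel

theorem bound_ok : boundB 190080 els 2608200 = true ∧ els.length = 61 := ⟨by decide +kernel, by decide +kernel⟩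

end CfsgLib.Co3M12.CoB
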